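import Groth.Agent.L06.CMFibreDim
import Groth.Agent.L23.FibreDimBC
import Groth.Agent.L09.Nagata
import Groth.Agent.L06.Spectral
import Groth.Agent.L28.VTop.Val

/-!
Bounds on the fibre dimension of a flat morphism extend from a dense open of the base.
-/

set_option autoImplicit false
set_option linter.style.haveILetI false
set_option backward.isDefEq.respectTransparency.types false
set_option backward.isDefEq.respectTransparency false
universe u

open CategoryTheory CategoryTheory.Limits AlgebraicGeometry Topology TopologicalSpace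

namespace L02.RelDim

theorem lfp_of_flat_valuation {V : CommRingCat.{u}} [IsDomain V] [ValuationRing V] {Z : Scheme.{u}} [IsAffine Z]
    (h : Z ⟶ Spec V) [Flat h] [LocallyOfFiniteType h] : LocallyOfFinitePresentation h := by
  obtain ⟨φ, hφ⟩ := Spec.map_surjective (Z.isoSpec.inv ≫ h)
  letI := φ.hom.toAlgebra
  haveI hfl : Flat (Spec.map φ) := by rw [hφ]; infer_instance
  haveI hft : LocallyOfFiniteType (Spec.map φ) := by rw [hφ]; infer_instance
  haveI : Module.Flat V Γ(Z, ⊤) := (HasRingHomProperty.Spec_iff (P := @Flat)).mp hfl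
  haveI : Algebra.FiniteType V Γ(Z, ⊤) := (HasRingHomProperty.Spec_iff (P := @LocallyOfFiniteType)).mp hft
  haveI := Groth.L09.Nagata.finitePresentation_of_flat (V := V) (B := Γ(Z, ⊤))
  haveI : LocallyOfFinitePresentation (Spec.map φ) :=
    (HasRingHomProperty.Spec_iff (P := @LocallyOfFinitePresentation)).mpr
      (show φ.hom.FinitePresentation from ‹Algebra.FinitePresentation V Γ(Z, ⊤)›)
  rw [show h = Z.isoSpec.hom ≫ Spec.map φ by rw [hφ, Iso.hom_inv_id_assoc]]
  infer_instance

/-- Large fibre dimension generises along flat morphisms of finite type. -/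
theorem exists_fibreDimAt_lt {X S : Scheme.{u}} (f : X ⟶ S) [Flat f] [LocallyOfFiniteType f] {x : X} {s' : S}
    (hs : s' ⤳ f x) {d : WithBot ℕ∞} (hd : d < FlatMor.fibreDimAt f x) :
    ∃ x', f x' = s' ∧ d < FlatMor.fibreDimAt f x' := by
  obtain ⟨V, _, _, g, hga, hgb⟩ := Groth.L28.VTop.exists_valuationRing_point hs
  have sq := IsPullback.of_hasPullback f g
  obtain ⟨z, hz, hz'⟩ := Scheme.Pullback.exists_preimage_pullback (f := f) (g := g) x (Groth.L28.VTop.clo V) hgb.symm
  obtain ⟨W, hW, hzW, -⟩ := exists_isAffineOpen_mem_and_subset (X := pullback f g) (x := z) (U := ⊤) trivial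
  haveI : IsAffine W.toScheme := hW
  let h : W.toScheme ⟶ Spec V := W.ι ≫ pullback.snd f g
  haveI := lfp_of_flat_valuation h
  have e : ∀ w, FlatMor.fibreDimAt h w = FlatMor.fibreDimAt f (pullback.fst f g (W.ι w)) := fun w =>
    (Groth.L23.fibreDimAt_etale_comp W.ι (pullback.snd f g) w).trans (Groth.L23.fibreDimAt_of_isPullback sq _)
  have hop : IsOpen {t : ↥(Spec V) | d < topologicalKrullDim (h.fiber t)} := Groth.L06.CMFibreDim.isOpen_lt h d
  have hclo : h ⟨z, hzW⟩ = Groth.L28.VTop.clo V := hz'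
  have hmem : Groth.L28.VTop.clo V ∈ {t : ↥(Spec V) | d < topologicalKrullDim (h.fiber t)} := by
    show d < _
    rw [← not_le, Groth.L07.FibreDim.fiber_dim_le_iff]
    intro H
    have := H ⟨z, hzW⟩ hclo
    rw [e] at this
    exact hd.not_ge (by rwa [show W.ι ⟨z, hzW⟩ = z from rfl, hz] at this)
  have hgen := (Groth.L28.VTop.specializes_gen V (Groth.L28.VTop.clo V)).mem_open hop hmem
  change d < _ at hgen
  rw [← not_le, Groth.L07.FibreDim.fiber_dim_le_iff] at hgen
  push Not at hgen
  obtain ⟨w, hw, hwd⟩ := hgen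
  refine ⟨pullback.fst f g (W.ι w), ?_, by rwa [← e]⟩
  rw [← Scheme.Hom.comp_apply, sq.w, Scheme.Hom.comp_apply]
  exact (congrArg g hw).trans hga

theorem exists_generization_mem {S : Scheme.{u}} {U : S.Opens} (hU : Dense (U : Set S))
    (hr : IsRetrocompact (U : Set S)) (s : S) : ∃ u, u ∈ U ∧ u ⤳ s := by
  obtain ⟨W, hW, hsW, -⟩ := exists_isAffineOpen_mem_and_subset (X := S) (x := s) (U := ⊤) trivial
  let j := hW.fromSpec
  obtain ⟨p, hp⟩ : s ∈ Set.range j := by rw [hW.range_fromSpec]; exact hsW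
  have hE : IsCompact (j ⁻¹' (U : Set S)) := by
    refine j.isOpenEmbedding.isInducing.isCompact_iff.mpr ?_
    rw [Set.image_preimage_eq_inter_range, hW.range_fromSpec]
    exact hr hW.isCompact W.2
  have hEo : IsOpen (j ⁻¹' (U : Set S)) := U.2.preimage j.continuous
  have hcl : p ∈ closure (j ⁻¹' (U : Set S)) :=
    (hU.preimage j.isOpenEmbedding.isOpenMap) p
  obtain ⟨q, hq, hqp⟩ := Groth.L06.Spectral.exists_specializes_of_mem_closure (X := PrimeSpectrum Γ(S, W))
    (Groth.L06.Spectral.isClopen_cons hEo hE).1 hcl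
  exact ⟨j q, hq, hp ▸ hqp.map j.continuous⟩

theorem fibreDimAt_le_of_dense {X S : Scheme.{u}} (f : X ⟶ S) [Flat f] [LocallyOfFiniteType f]
    (U : S.Opens) (hU : Dense (U : Set S)) (e : WithBot ℕ∞)
    (hle : ∀ x : X, f x ∈ U → FlatMor.fibreDimAt f x ≤ e)
    (h : LocallyOfFinitePresentation f ∨ IsRetrocompact (U : Set S)) (x : X) :
    FlatMor.fibreDimAt f x ≤ e := by
  by_contra hx
  rw [not_le] at hx
  rcases h with h | h
  · have hmem : f x ∈ {t | e < topologicalKrullDim (f.fiber t)} := by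
      show e < _
      rw [← not_le, Groth.L07.FibreDim.fiber_dim_le_iff]
      exact fun H => hx.not_ge (H x rfl)
    obtain ⟨t, ht, htU⟩ := hU.inter_open_nonempty _ (Groth.L06.CMFibreDim.isOpen_lt f e) ⟨_, hmem⟩
    change e < _ at ht
    rw [← not_le, Groth.L07.FibreDim.fiber_dim_le_iff] at ht
    exact ht fun z hz => hle z (by rw [hz]; exact htU)
  · obtain ⟨u, hu, hus⟩ := exists_generization_mem hU h (f x)
    obtain ⟨x', hx', hd⟩ := exists_fibreDimAt_lt f hus hx
    exact hd.not_ge (hle x' (by rw [hx']; exact hu))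

end L02.RelDim
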