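import Groth.Agent.L02.FibDepth.LDConstructible
import Groth.Agent.L07.SyntDim

/-!
The locus of bounded local fibre dimension of a finitely presented algebra is quasi-compact.
-/

set_option autoImplicit false
set_option linter.style.haveILetI false
universe u

open CategoryTheory AlgebraicGeometry TopologicalSpace Topology PrimeSpectrum L02.FibDepth
open Groth.L15.FibrePdSemi

namespace L02.RelDim

theorem isCompact_of_isConstructible {R : Type*} [CommRing R] {s : Set (PrimeSpectrum R)} (h : IsConstructible s) :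
    IsCompact s := by
  induction s, h using IsConstructible.induction_of_isTopologicalBasis
    (fun g : R => (basicOpen g : Set (PrimeSpectrum R))) isTopologicalBasis_basic_opens isCompact_basicOpen with
  | union s hs t ht ihs iht => exact ihs.union iht
  | sdiff g t ht => exact IsCompact.diff (isCompact_basicOpen g) (isOpen_biUnion fun h _ => (basicOpen h).isOpen)

/-- The chart computation. -/
theorem compl_fibreDimAt_le {A : Type u} [CommRing A] {d : ℕ} (I : Ideal (P A d)) (n : ℕ)
    (f : Spec (CommRingCat.of (P A d ⧸ I)) ⟶ Spec (CommRingCat.of A))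
    (hf : f = Spec.map (CommRingCat.ofHom (algebraMap A (P A d ⧸ I)))) :
    ({w | FlatMor.fibreDimAt f w ≤ n}ᶜ : Set (PrimeSpectrum (P A d ⧸ I))) =
      comap (Ideal.Quotient.mk I) ⁻¹' LD (fun q : PrimeSpectrum (P A d) => comap (algebraMap A (P A d)) q) dP
        (zeroLocus (I : Set (P A d))) (n + 1) := by
  subst hf
  let C := P A d ⧸ I
  let j : PrimeSpectrum C → PrimeSpectrum (P A d) := comap (Ideal.Quotient.mk I)
  let f : Spec (CommRingCat.of C) ⟶ Spec (CommRingCat.of A) := Spec.map (CommRingCat.ofHom (algebraMap A C))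
  haveI : LocallyOfFiniteType f :=
    (HasRingHomProperty.Spec_iff (P := @LocallyOfFiniteType)).mpr (RingHom.finiteType_algebraMap.mpr inferInstance)
  have hj : IsClosedEmbedding j := isClosedEmbedding_comap_of_surjective _ _ Ideal.Quotient.mk_surjective
  have hrange : Set.range j = zeroLocus (I : Set (P A d)) := by
    rw [range_comap_of_surjective _ _ Ideal.Quotient.mk_surjective, Ideal.mk_ker]
  have hcomp : ∀ w, comap (algebraMap A (P A d)) (j w) = comap (algebraMap A C) w := fun w => rfl
  have hdim : ∀ v w : PrimeSpectrum C, comap (algebraMap A C) v = comap (algebraMap A C) w →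
      topologicalKrullDim (closure ({v} : Set (PrimeSpectrum C)) ∩
        comap (algebraMap A C) ⁻¹' {comap (algebraMap A C) w} : Set (PrimeSpectrum C)) = (dP (j v) : WithBot ℕ∞) :=
    fun v w e => by
    rw [← e, ← delta_eq_dP]
    refine (Groth.L22.SchemeDim.topologicalKrullDim_eq_of_isEmbedding
      (f := fun x : ↥(closure ({v} : Set (PrimeSpectrum C)) ∩
        comap (algebraMap A C) ⁻¹' {comap (algebraMap A C) v} : Set (PrimeSpectrum C)) => j x.1)
      (hj.isEmbedding.comp IsEmbedding.subtypeVal) ?_).symm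
    rw [Set.range_comp', Subtype.range_coe, Set.inter_comm]
    show j '' ((comap (algebraMap A (P A d)) ∘ j) ⁻¹' {comap (algebraMap A (P A d)) (j v)} ∩ closure {v}) = _
    rw [Set.preimage_comp, Set.image_preimage_inter, ← hj.isClosedMap.closure_image_eq_of_continuous hj.continuous {v},
      Set.image_singleton, Set.inter_comm]
  ext w
  change ¬ (FlatMor.fibreDimAt f w ≤ (n : WithBot ℕ∞)) ↔ ∃ z ∈ zeroLocus (I : Set (P A d)), z ⤳ j w ∧
    comap (algebraMap A (P A d)) z = comap (algebraMap A (P A d)) (j w) ∧ n + 1 ≤ dP z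
  rw [Groth.L22.FibreSemicont.fibreDimAt_eq_iSup f (w : Spec (CommRingCat.of C)), iSup_le_iff]
  constructor
  · intro h
    obtain ⟨⟨v, hvw, hf⟩, hv⟩ := not_forall.1 h
    change PrimeSpectrum C at v
    refine ⟨j v, hrange ▸ ⟨v, rfl⟩, hvw.map hj.continuous, (hcomp v).trans (Eq.trans hf (hcomp w).symm), ?_⟩
    have h2 : ¬ topologicalKrullDim (closure ({v} : Set (PrimeSpectrum C)) ∩
        comap (algebraMap A C) ⁻¹' {comap (algebraMap A C) w} : Set (PrimeSpectrum C)) ≤ n := hv
    rw [hdim v w hf] at h2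
    norm_cast at h2
    omega
  · rintro ⟨z, hz, hzw, hp, hd⟩ h
    obtain ⟨v, rfl⟩ := hrange.ge hz
    have hf : comap (algebraMap A C) v = comap (algebraMap A C) w := (hcomp v).symm.trans (hp.trans (hcomp w))
    have h2 : topologicalKrullDim (closure ({v} : Set (PrimeSpectrum C)) ∩
        comap (algebraMap A C) ⁻¹' {comap (algebraMap A C) w} : Set (PrimeSpectrum C)) ≤ n :=
      h ⟨v, hj.isEmbedding.isInducing.specializes_iff.1 hzw, hf⟩
    rw [hdim v w hf] at h2
    norm_cast at h2
    omega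

theorem isCompact_fibreDimAt_le {X Y : Scheme.{u}} (f : X ⟶ Y) [LocallyOfFinitePresentation f] (n : ℕ)
    {W : X.Opens} (hW : IsAffineOpen W) {V : Y.Opens} (hV : IsAffineOpen V) (hle : W ≤ f ⁻¹ᵁ V) :
    IsCompact ((W : Set X) ∩ {x | FlatMor.fibreDimAt f x ≤ n}) := by
  classical
  letI : Algebra Γ(Y, V) Γ(X, W) := (f.appLE V W hle).hom.toAlgebra
  haveI : Algebra.FinitePresentation Γ(Y, V) Γ(X, W) := f.finitePresentation_appLE hV hW hle
  obtain ⟨d, φ, hφs, hker⟩ := Algebra.FinitePresentation.out (R := Γ(Y, V)) (A := Γ(X, W))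
  let I : Ideal (P Γ(Y, V) d) := RingHom.ker φ.toRingHom
  let e : (P Γ(Y, V) d ⧸ I) ≃ₐ[Γ(Y, V)] Γ(X, W) := Ideal.quotientKerAlgEquivOfSurjective hφs
  let j : Spec (CommRingCat.of (P Γ(Y, V) d ⧸ I)) ⟶ X :=
    Spec.map (CommRingCat.ofHom e.symm.toRingHom) ≫ hW.fromSpec
  haveI : IsIso (Spec.map (CommRingCat.ofHom e.symm.toRingHom)) := by
    haveI : IsIso (CommRingCat.ofHom e.symm.toRingHom) := (e.symm.toRingEquiv.toCommRingCatIso).isIso_hom
    infer_instance
  let f' : Spec (CommRingCat.of (P Γ(Y, V) d ⧸ I)) ⟶ Spec Γ(Y, V) :=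
    Spec.map (CommRingCat.ofHom (algebraMap Γ(Y, V) (P Γ(Y, V) d ⧸ I)))
  have w : j ≫ f = f' ≫ hV.fromSpec := by
    rw [Category.assoc, ← hV.SpecMap_appLE_fromSpec f hW hle, ← Category.assoc, ← Spec.map_comp]
    congr 2
    ext x
    exact e.symm.commutes x
  obtain ⟨S, hS⟩ := hker
  have hIfg : I.FG := ⟨S, hS⟩
  have hopen : IsOpen ({x | FlatMor.fibreDimAt f x ≤ n} : Set X) := Groth.L07.FibreDim.isOpen_fibreDimAt_le f n
  let E : Set (PrimeSpectrum (P Γ(Y, V) d ⧸ I)) := {z | FlatMor.fibreDimAt f' z ≤ n}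
  have hE : IsConstructible E := by
    rw [← compl_compl E]
    refine IsConstructible.compl ?_
    rw [show Eᶜ = _ from compl_fibreDimAt_le I n f' rfl]
    have hz : zeroLocus (I : Set (P Γ(Y, V) d)) = (⋃ g ∈ S, (basicOpen g : Set _))ᶜ := by
      rw [show I = Ideal.span (S : Set (P Γ(Y, V) d)) from hS.symm, zeroLocus_span]
      ext p
      simp [mem_zeroLocus, Set.subset_def]
    refine IsConstructible.preimage_of_isClosedEmbedding
      (isClosedEmbedding_comap_of_surjective _ _ Ideal.Quotient.mk_surjective) ?_ (isConstructible_LD ?_ _)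
    · rw [range_comap_of_surjective _ _ Ideal.Quotient.mk_surjective, Ideal.mk_ker, hz, compl_compl]
      exact S.isCompact_biUnion fun g _ => isCompact_basicOpen g
    · rw [hz]
      exact (IsConstructible.biUnion S.finite_toSet fun g _ =>
        (isCompact_basicOpen g).isConstructible (basicOpen g).isOpen).compl
  have himg : (W : Set X) ∩ {x | FlatMor.fibreDimAt f x ≤ n} = j '' E := by
    ext x
    constructor
    · rintro ⟨hx, hx'⟩
      obtain ⟨z, rfl⟩ : x ∈ Set.range hW.fromSpec := by rw [hW.range_fromSpec]; exact hx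
      obtain ⟨z', rfl⟩ := (Spec.map (CommRingCat.ofHom e.symm.toRingHom)).surjective z
      refine ⟨z', ?_, rfl⟩
      show FlatMor.fibreDimAt f' z' ≤ n
      rwa [← Groth.L07.SyntDim.fibreDimAt_congr f f' j hV.fromSpec w z']
    · rintro ⟨z', hz', rfl⟩
      refine ⟨?_, ?_⟩
      · rw [Scheme.Hom.comp_apply]; exact hW.range_fromSpec ▸ ⟨_, rfl⟩
      · show FlatMor.fibreDimAt f (j z') ≤ n
        rwa [Groth.L07.SyntDim.fibreDimAt_congr f f' j hV.fromSpec w z']
  rw [himg]
  exact (isCompact_of_isConstructible hE).image j.continuous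

end L02.RelDim
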