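import Groth.Agent.L23.RelDim
import Groth.Agent.L23.FibreDimBC
import Groth.Agent.L23.DimDecent
import Groth.Agent.L23.Compact
import Groth.Agent.L07.FibreDimSemi
import Groth.Agent.L06.CMFibreDim

/-!
The dimension of the fibres of a morphism of algebraic spaces.
-/

set_option autoImplicit false
set_option linter.style.haveILetI false
set_option backward.isDefEq.respectTransparency.types false
set_option backward.isDefEq.respectTransparency false
universe u

open CategoryTheory CategoryTheory.Limits AlgebraicGeometry Topology AlgSp Groth.L23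

namespace L02.RelDim

variable {S : Scheme.{u}}

/-- One surjective chart computes the dimension. -/
theorem dim_eq_chart {P : Sp S} (hP : IsAlgSpace P) {A : Over S} {a : (yon S).obj A ⟶ P} (ha : RepWith @Etale a)
    (has : RepWith @Surjective a) : AlgSp.dim P = topologicalKrullDim A.left := by
  refine le_antisymm (iSup_le fun B => iSup_le fun b => iSup_le fun hb => ?_)
    (le_iSup_of_le A (le_iSup_of_le a (le_iSup_of_le ha le_rfl)))
  obtain ⟨R, p, q, sq⟩ := exists_isPullback_of_representable (hP.representable_from_yon a) b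
  haveI : Etale q.left := repWith_prop ha sq
  haveI : Surjective q.left := repWith_prop has sq
  haveI : Etale p.left := repWith_prop hb sq.flip
  haveI := lqf_of_etale p.left
  rw [← Pt.dim_eq_of_etale_surjective q.left]
  exact Pt.dim_le_of_lqf p.left

variable {X Y : Sp S}

theorem dim_fibre_le_iff (hX : IsAlgSpace X) (hY : IsAlgSpace Y) {f : X ⟶ Y} (hf : LocP @LocallyOfFiniteType f)
    {V W : Over S} {b : (yon S).obj V ⟶ Y} (hb : RepWith @Etale b) {P : Sp S} {fP : P ⟶ X} {sP : P ⟶ (yon S).obj V}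
    (sq : IsPullback fP sP f b) {c : (yon S).obj W ⟶ P} (hc : RepWith @Etale c) (hcs : RepWith @Surjective c)
    (g : W ⟶ V) (hg : c ≫ sP = (yon S).map g) (k : FieldPt Y) {Q : Sp S} {fQ : Q ⟶ X}
    {sQ : Q ⟶ (yon S).obj k.pt} (sk : IsPullback fQ sQ f k.toHom) (v : V.left) (hv : Points.ofPt b v = Points.mk k)
    (d : WithBot ℕ∞) :
    AlgSp.dim Q ≤ d ↔ ∀ w : W.left, Points.ofPt b (g.left w) = Points.mk k → FlatMor.fibreDimAt g.left w ≤ d := by
  have w₀ : (c ≫ fP) ≫ f = (yon S).map g ≫ b := by rw [Category.assoc, sq.w, ← Category.assoc, hg]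
  haveI : LocallyOfFiniteType g.left := hf (c ≫ fP) b g (repWith_comp hc (repWith_of_isPullback sq.flip hb)) hb w₀
  obtain ⟨R, q, s, sR⟩ := exists_isPullback_of_representable (hY.representable_from_yon b) k.toHom
  haveI : Etale s.left := repWith_prop hb sR
  obtain ⟨r₀, hr₀, -⟩ := (ofPt_eq_ofPt_iff sR v (IsLocalRing.closedPoint k.K)).1 (hv.trans (Points.ofPt_toHom k _).symm)
  haveI hss : Surjective s.left := ⟨fun t => ⟨r₀, Subsingleton.elim (α := PrimeSpectrum k.K) _ t⟩⟩
  haveI := lqf_of_etale s.left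
  haveI : DiscreteTopology R.left := by
    have h1 := s.left.isDiscrete_preimage_singleton (s.left r₀)
    rw [show s.left ⁻¹' {s.left r₀} = Set.univ from Set.eq_univ_of_forall fun x =>
      Subsingleton.elim (α := PrimeSpectrum k.K) (s.left x) (s.left r₀)] at h1
    exact isDiscrete_univ_iff.1 h1
  have sA : IsPullback (pullback.fst g q) (pullback.snd g q) g q := IsPullback.of_hasPullback g q
  have sA' : IsPullback ((yon S).map (pullback.fst g q)) ((yon S).map (pullback.snd g q)) (c ≫ sP) ((yon S).map q) := by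
    rw [hg]; exact sA.map (yon S)
  -- `Q ×_k R` as a base change of `P`
  have sT := IsPullback.of_hasPullback sQ ((yon S).map s)
  have hT : IsPullback (pullback.fst sQ ((yon S).map s) ≫ fQ) (pullback.snd sQ ((yon S).map s)) f ((yon S).map q ≫ b) := by
    rw [sR.w]; exact sT.paste_horiz sk
  let l := sq.lift (pullback.fst sQ ((yon S).map s) ≫ fQ) (pullback.snd sQ ((yon S).map s) ≫ (yon S).map q)
    (by rw [hT.w, Category.assoc])
  have sl : IsPullback l (pullback.snd sQ ((yon S).map s)) sP ((yon S).map q) := by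
    refine IsPullback.of_right ?_ (sq.lift_snd _ _ _) sq
    rw [show l ≫ fP = _ from sq.lift_fst _ _ _]
    exact hT
  let a := sl.lift ((yon S).map (pullback.fst g q) ≫ c) ((yon S).map (pullback.snd g q))
    (by rw [Category.assoc]; exact sA'.w)
  have sa : IsPullback ((yon S).map (pullback.fst g q)) a c l := by
    refine IsPullback.of_bot ?_ (sl.lift_fst _ _ _).symm sl
    rw [show a ≫ pullback.snd sQ ((yon S).map s) = _ from sl.lift_snd _ _ _]
    exact sA'
  have ha : RepWith @Etale (a ≫ pullback.fst sQ ((yon S).map s)) :=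
    repWith_comp (repWith_of_isPullback sa hc) (repWith_of_isPullback sT.flip (repWith_map (P := (@Etale : MorphismProperty Scheme.{u})) ‹_›))
  have has : RepWith @Surjective (a ≫ pullback.fst sQ ((yon S).map s)) :=
    repWith_comp (repWith_of_isPullback sa hcs) (repWith_of_isPullback sT.flip (repWith_map (P := (@Surjective : MorphismProperty Scheme.{u})) hss))
  have hQ : IsAlgSpace Q := isAlgSpace_of_isPullback hY.diag hX (IsAlgSpace.yon_obj _) sk
  rw [dim_eq_chart hQ ha has]
  let h := (pullback.snd g q).left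
  have sS : IsPullback (pullback.fst g q).left h g.left q.left := sA.map (Over.forget S)
  haveI : LocallyOfFiniteType h := MorphismProperty.of_isPullback sS ‹LocallyOfFiniteType g.left›
  have key : topologicalKrullDim (pullback g q).left ≤ d ↔ ∀ z, FlatMor.fibreDimAt h z ≤ d := by
    constructor
    · intro hd z
      exact (Groth.L07.FibreDim.fiber_dim_le_iff h (h z) d).1
        ((h.fiberι (h z)).isEmbedding.topologicalKrullDim_le.trans hd) z rfl
    · intro hd
      refine Groth.L07.FibreDim.dim_le_of_localDim_le d fun t => ?_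
      refine iInf_le_of_le ⟨⟨h ⁻¹' {h t}, (isOpen_discrete _).preimage h.continuous⟩, rfl⟩ ?_
      refine le_trans (le_of_eq ?_) ((Groth.L07.FibreDim.fiber_dim_le_iff h (h t) d).2 fun z _ => hd z)
      exact (Groth.L22.SchemeDim.topologicalKrullDim_eq_of_isEmbedding (h.fiberι (h t)).isEmbedding
        (h.range_fiberι (h t))).trans rfl
  rw [key]
  constructor
  · intro H w hw
    obtain ⟨r, hr, -⟩ := (ofPt_eq_ofPt_iff sR (g.left w) (IsLocalRing.closedPoint k.K)).1
      (hw.trans (Points.ofPt_toHom k _).symm)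
    obtain ⟨z, hz, -⟩ := Scheme.Pullback.exists_preimage_pullback (f := g.left) (g := q.left) w r hr.symm
    have := H (sS.isoPullback.inv z)
    rwa [fibreDimAt_of_isPullback sS, ← Scheme.Hom.comp_apply, sS.isoPullback_inv_fst, hz] at this
  · intro H z
    rw [fibreDimAt_of_isPullback sS]
    refine H _ ?_
    rw [← Scheme.Hom.comp_apply, sS.w, Scheme.Hom.comp_apply]
    exact ((ofPt_eq_ofPt_iff sR _ (IsLocalRing.closedPoint k.K)).2
      ⟨h z, rfl, Subsingleton.elim (α := PrimeSpectrum k.K) _ _⟩).trans (Points.ofPt_toHom k _)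

/-- Surjective charts of a morphism. -/
theorem exists_atlas (hX : IsAlgSpace X) (hY : IsAlgSpace Y) (f : X ⟶ Y) :
    ∃ (V W : Over S) (b : (yon S).obj V ⟶ Y) (P : Sp S) (fP : P ⟶ X) (sP : P ⟶ (yon S).obj V)
      (c : (yon S).obj W ⟶ P) (g : W ⟶ V), RepWith @Etale b ∧ RepWith @Surjective b ∧ IsPullback fP sP f b ∧
      RepWith @Etale c ∧ RepWith @Surjective c ∧ c ≫ sP = (yon S).map g := by
  obtain ⟨V, b, hb, hbs⟩ := hY.atlas
  obtain ⟨W, c, hc, hcs⟩ := (isAlgSpace_of_isPullback hY.diag hX (IsAlgSpace.yon_obj V) (IsPullback.of_hasPullback f b)).atlas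
  obtain ⟨g, hg⟩ := (yon S).map_surjective (c ≫ pullback.snd f b)
  exact ⟨V, W, b, _, _, _, c, g, hb, hbs, IsPullback.of_hasPullback f b, hc, hcs, hg.symm⟩

theorem isOpen_lt_dim (hX : IsAlgSpace X) (hY : IsAlgSpace Y) {f : X ⟶ Y} (hfl : LocP @Flat f)
    (hfp : LocP @LocallyOfFinitePresentation f) (hft : LocP @LocallyOfFiniteType f) (d : WithBot ℕ∞) :
    IsOpen {y : Points Y | ∀ (k : FieldPt Y), Points.mk k = y →
      ∀ (Q : Sp S) (fst : Q ⟶ X) (snd : Q ⟶ (yon S).obj k.pt), IsPullback fst snd f k.toHom → d < AlgSp.dim Q} := by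
  obtain ⟨V, W, b, P, fP, sP, c, g, hb, hbs, sq, hc, hcs, hg⟩ := exists_atlas hX hY f
  have w₀ : (c ≫ fP) ≫ f = (yon S).map g ≫ b := by rw [Category.assoc, sq.w, ← Category.assoc, hg]
  have ha : RepWith @Etale (c ≫ fP) := repWith_comp hc (repWith_of_isPullback sq.flip hb)
  haveI : Flat g.left := hfl _ b g ha hb w₀
  haveI : LocallyOfFinitePresentation g.left := hfp _ b g ha hb w₀
  refine (congrArg IsOpen (Set.ext fun y => ?_)).mp
    ((isOpenQuotientMap_ofPt hb hbs).isOpenMap _ (Groth.L06.CMFibreDim.isOpen_lt g.left d))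
  constructor
  · rintro ⟨v, hv, rfl⟩ k hk Q fQ sQ sk
    rw [← not_le, dim_fibre_le_iff hX hY hft hb sq hc hcs g hg k sk v hk.symm]
    rw [Set.mem_setOf_eq, ← not_le, Groth.L07.FibreDim.fiber_dim_le_iff] at hv
    exact fun H => hv fun w hw => H w (by rw [hw]; exact hk.symm)
  · intro H
    obtain ⟨k, rfl⟩ := Points.mk_surjective y
    obtain ⟨v, hv⟩ := surjective_ofPt hbs (Points.mk k)
    have h1 := H k rfl _ _ _ (IsPullback.of_hasPullback f k.toHom)
    rw [← not_le, dim_fibre_le_iff hX hY hft hb sq hc hcs g hg k (IsPullback.of_hasPullback f k.toHom) v hv] at h1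
    push Not at h1
    obtain ⟨w, hw, hd⟩ := h1
    refine ⟨g.left w, ?_, hw⟩
    rw [Set.mem_setOf_eq, ← not_le, Groth.L07.FibreDim.fiber_dim_le_iff]
    exact fun H' => hd.not_ge (H' w rfl)

theorem isOpen_dim_le (hX : IsAlgSpace X) (hY : IsAlgSpace Y) {f : X ⟶ Y} (hft : LocP @LocallyOfFiniteType f)
    (hcl : IsClosedMap (Points.map f)) (d : WithBot ℕ∞) :
    IsOpen {y : Points Y | ∀ (k : FieldPt Y), Points.mk k = y →
      ∀ (Q : Sp S) (fst : Q ⟶ X) (snd : Q ⟶ (yon S).obj k.pt), IsPullback fst snd f k.toHom → AlgSp.dim Q ≤ d} := by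
  obtain ⟨V, W, b, P, fP, sP, c, g, hb, hbs, sq, hc, hcs, hg⟩ := exists_atlas hX hY f
  have w₀ : (c ≫ fP) ≫ f = (yon S).map g ≫ b := by rw [Category.assoc, sq.w, ← Category.assoc, hg]
  let a := c ≫ fP
  have ha : RepWith @Etale a := repWith_comp hc (repWith_of_isPullback sq.flip hb)
  have has : RepWith @Surjective a := repWith_comp hcs (repWith_of_isPullback sq.flip hbs)
  haveI : LocallyOfFiniteType g.left := hft a b g ha hb w₀
  have hD : IsOpen {w : W.left | FlatMor.fibreDimAt g.left w ≤ d} := by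
    induction d with
    | bot =>
      refine (congrArg IsOpen (Set.eq_empty_of_forall_notMem fun w hw => ?_)).mpr isOpen_empty
      obtain ⟨n, hn⟩ := Groth.L07.OpenEquiv.exists_nat_fibreDimAt g.left w
      rw [Set.mem_setOf_eq, hn] at hw
      exact absurd (le_bot_iff.1 hw) (WithBot.coe_ne_bot)
    | coe m =>
      induction m with
      | top => exact (congrArg IsOpen (Set.eq_univ_of_forall fun w => by simp)).mpr isOpen_univ
      | coe n => exact Groth.L07.FibreDim.isOpen_fibreDimAt_le g.left n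
  have hsat : Points.ofPt a ⁻¹' (Points.ofPt a '' {w : W.left | FlatMor.fibreDimAt g.left w ≤ d}ᶜ) =
      {w : W.left | FlatMor.fibreDimAt g.left w ≤ d}ᶜ := by
    refine Set.Subset.antisymm ?_ (Set.subset_preimage_image _ _)
    rintro w ⟨w', hw', e⟩ hw
    exact hw' (le_of_eq_of_le (fibreDimAt_of_other_chart ha hb ha hb w₀ w₀ e) hw)
  have hB : IsClosed (Points.ofPt a '' {w : W.left | FlatMor.fibreDimAt g.left w ≤ d}ᶜ) := by
    rw [← (isOpenQuotientMap_ofPt ha has).isQuotientMap.isClosed_preimage, hsat]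
    exact hD.isClosed_compl
  refine (congrArg IsOpen (Set.ext fun y => ?_)).mp (hcl _ hB).isOpen_compl
  have hmap : ∀ w, Points.map f (Points.ofPt a w) = Points.ofPt b (g.left w) := fun w => by
    rw [Points.map_ofPt, show a ≫ f = _ from w₀, ofPt_comp]
  constructor
  · intro H k hk Q fQ sQ sk
    obtain ⟨v, hv⟩ := surjective_ofPt hbs (Points.mk k)
    rw [dim_fibre_le_iff hX hY hft hb sq hc hcs g hg k sk v hv]
    intro w hw
    by_contra hn
    exact H ⟨_, ⟨w, hn, rfl⟩, by rw [hmap, hw, hk]⟩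
  · rintro H ⟨_, ⟨w, hw, rfl⟩, e⟩
    rw [hmap] at e
    obtain ⟨k, rfl⟩ := Points.mk_surjective y
    have h1 := H k rfl _ _ _ (IsPullback.of_hasPullback f k.toHom)
    rw [dim_fibre_le_iff hX hY hft hb sq hc hcs g hg k (IsPullback.of_hasPullback f k.toHom) (g.left w) e] at h1
    exact hw (h1 w e)

/-- The fibres of a quasi-compact morphism have finite dimension. -/
theorem exists_dim_le (hX : IsAlgSpace X) (hY : IsAlgSpace Y) {f : X ⟶ Y} (hft : LocP @LocallyOfFiniteType f)
    (hqc : IsQuasiCompactMor f) (k : FieldPt Y) {Q : Sp S} {fQ : Q ⟶ X} {sQ : Q ⟶ (yon S).obj k.pt}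
    (sk : IsPullback fQ sQ f k.toHom) : ∃ n : ℕ, AlgSp.dim Q ≤ (n : WithBot ℕ∞) := by
  classical
  obtain ⟨V₀, b₀, hb₀, hb₀s⟩ := hY.atlas
  obtain ⟨v₀, hv₀⟩ := surjective_ofPt hb₀s (Points.mk k)
  obtain ⟨V₁, hV₁, hv₁, -⟩ := exists_isAffineOpen_mem_and_subset (X := V₀.left) (x := v₀) (U := ⊤) trivial
  let j : Over.mk (V₁.ι ≫ V₀.hom) ⟶ V₀ := Over.homMk V₁.ι rfl
  have hb : RepWith @Etale ((yon S).map j ≫ b₀) :=
    repWith_comp (repWith_map (P := (@Etale : MorphismProperty Scheme.{u})) (inferInstanceAs (Etale V₁.ι))) hb₀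
  haveI : IsAffine (Over.mk (V₁.ι ≫ V₀.hom) : Over S).left := hV₁
  have sq := IsPullback.of_hasPullback f ((yon S).map j ≫ b₀)
  obtain ⟨W, c, hc, hcs, hW⟩ := isQuasiCompactMor_of_pullback hqc ((yon S).map j ≫ b₀)
  haveI : CompactSpace W.left := hW
  obtain ⟨g, hg⟩ := (yon S).map_surjective (c ≫ pullback.snd f ((yon S).map j ≫ b₀))
  haveI : LocallyOfFiniteType g.left := hft _ _ g (repWith_comp hc (repWith_of_isPullback sq.flip hb)) hb
    (by rw [hg, Category.assoc, Category.assoc, pullback.condition])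
  choose N hN using fun w => Groth.L07.OpenEquiv.exists_nat_fibreDimAt g.left w
  obtain ⟨t, ht⟩ := isCompact_univ.elim_finite_subcover (fun w : W.left => {x | FlatMor.fibreDimAt g.left x ≤ (N w : WithBot ℕ∞)})
    (fun w => Groth.L07.FibreDim.isOpen_fibreDimAt_le g.left (N w))
    (fun w _ => Set.mem_iUnion.2 ⟨w, (hN w).le⟩)
  refine ⟨t.sup N, (dim_fibre_le_iff hX hY hft hb sq hc hcs g hg.symm k sk ⟨v₀, hv₁⟩
    (by rw [ofPt_comp]; exact hv₀) _).2 fun w _ => ?_⟩
  obtain ⟨w', hw', hle⟩ := Set.mem_iUnion₂.1 (ht (Set.mem_univ w))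
  exact le_trans hle (by exact_mod_cast Finset.le_sup (f := N) hw')

end L02.RelDim
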